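import Groth.Agent.CohBCLib.BC
import Groth.Agent.CohBCLib.Exchange
import Groth.Agent.CohBCLib.Univ

/-! Exchange properties under affine base change. -/

set_option autoImplicit false
set_option maxHeartbeats 1000000

universe u

open CategoryTheory CategoryTheory.Limits AlgebraicGeometry TensorProduct

namespace ExchBCLib

section Transfer

variable {R R' : Type u} [CommRing R] [CommRing R'] {ι : Type} {c : ComplexShape ι}
  {K L : HomologicalComplex (ModuleCat.{u} R) c} {K' L' : HomologicalComplex (ModuleCat.{u} R') c}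
  (φ : K ⟶ L) (φ' : K' ⟶ L') (eK : ∀ i, (K.X i : Type u) ≃+ (K'.X i : Type u))
  (eL : ∀ i, (L.X i : Type u) ≃+ (L'.X i : Type u))
  (hK : ∀ i j x, eK j ((K.d i j).hom x) = (K'.d i j).hom (eK i x))
  (hL : ∀ i j x, eL j ((L.d i j).hom x) = (L'.d i j).hom (eL i x))
  (hφ : ∀ i x, eL i ((φ.f i).hom x) = (φ'.f i).hom (eK i x))

include hL in
theorem mem_range_iff (j i : ι) (y : L.X i) :
    eL i y ∈ LinearMap.range (L'.d j i).hom ↔ y ∈ LinearMap.range (L.d j i).hom := by
  constructor
  · rintro ⟨w, hw⟩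
    refine ⟨(eL j).symm w, (eL i).injective ?_⟩
    rw [hL, AddEquiv.apply_symm_apply, hw]
  · rintro ⟨w, rfl⟩
    exact ⟨eL j w, (hL j i w).symm⟩

include hK in
theorem d_eq_zero_iff (i k : ι) (x : K.X i) : (K'.d i k).hom (eK i x) = 0 ↔ (K.d i k).hom x = 0 := by
  rw [← hK, AddEquiv.map_eq_zero_iff]

include hK hL hφ in
theorem surjective_transfer (n : ι) :
    Function.Surjective (HomologicalComplex.homologyMap φ n).hom ↔
      Function.Surjective (HomologicalComplex.homologyMap φ' n).hom := by
  rw [FlatCxLib.surjective_homologyMap_iff (φ := φ) n (c.next n) rfl (c.prev n) rfl,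
    FlatCxLib.surjective_homologyMap_iff (φ := φ') n (c.next n) rfl (c.prev n) rfl]
  constructor
  · intro h y hy
    obtain ⟨y, rfl⟩ := (eL n).surjective y
    obtain ⟨x, hx, hxy⟩ := h y ((d_eq_zero_iff eL hL n _ y).1 hy)
    refine ⟨eK n x, (d_eq_zero_iff eK hK n _ x).2 hx, ?_⟩
    rw [← hφ, ← map_sub, mem_range_iff eL hL]
    exact hxy
  · intro h y hy
    obtain ⟨x, hx, hxy⟩ := h (eL n y) ((d_eq_zero_iff eL hL n _ y).2 hy)
    obtain ⟨x, rfl⟩ := (eK n).surjective x
    refine ⟨x, (d_eq_zero_iff eK hK n _ x).1 hx, ?_⟩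
    rwa [← hφ, ← map_sub, mem_range_iff eL hL] at hxy

include hK hL hφ in
theorem injective_transfer (n : ι) :
    Function.Injective (HomologicalComplex.homologyMap φ n).hom ↔
      Function.Injective (HomologicalComplex.homologyMap φ' n).hom := by
  rw [FlatCxLib.injective_homologyMap_iff (φ := φ) n (c.next n) rfl (c.prev n) rfl,
    FlatCxLib.injective_homologyMap_iff (φ := φ') n (c.next n) rfl (c.prev n) rfl]
  constructor
  · intro h x hx hxr
    obtain ⟨x, rfl⟩ := (eK n).surjective x
    rw [← hφ, mem_range_iff eL hL] at hxr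
    exact (mem_range_iff eK hK _ n x).2 (h x ((d_eq_zero_iff eK hK n _ x).1 hx) hxr)
  · intro h x hx hxr
    refine (mem_range_iff eK hK _ n x).1 (h (eK n x) ((d_eq_zero_iff eK hK n _ x).2 hx) ?_)
    rwa [← hφ, mem_range_iff eL hL]

end Transfer

section Tensor

variable {A B : Type u} [CommRing A] [CommRing B] [Algebra A B] {ι : Type} {c : ComplexShape ι}
  {C : HomologicalComplex (ModuleCat.{u} A) c} {C' : HomologicalComplex (ModuleCat.{u} B) c}
  (θ : CohIII.bcCx (algebraMap A B) C ≅ C')
  (N N' : Type u) [AddCommGroup N] [Module A N] [Module B N] [IsScalarTower A B N]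
  [AddCommGroup N'] [Module A N'] [Module B N'] [IsScalarTower A B N']

/-- `C'ᵢ ≅ B ⊗ Cᵢ`. -/
noncomputable def bEquiv (i : ι) : (C'.X i : Type u) ≃ₗ[B] B ⊗[A] (C.X i : Type u) :=
  (HomologicalComplex.Hom.isoApp θ i).toLinearEquiv.symm.trans (FlatCxLib.extEquiv (B := B) (C.X i))

theorem bEquiv_d (i j : ι) (x : C'.X i) :
    bEquiv θ j ((C'.d i j).hom x) = (C.d i j).hom.baseChange B (bEquiv θ i x) :=
  (congrArg (FlatCxLib.extEquiv (B := B) (C.X j)) (ConcreteCategory.congr_hom (θ.inv.comm i j) x).symm).trans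
    (FlatCxLib.extEquiv_map (C.d i j) _)

/-- `C'ᵢ ⊗_B N ≅ Cᵢ ⊗_A N`. -/
noncomputable def eT (i : ι) : (C'.X i : Type u) ⊗[B] N ≃+ (C.X i : Type u) ⊗[A] N :=
  (((TensorProduct.congr (bEquiv θ i) (LinearEquiv.refl B N)).trans (TensorProduct.comm B _ N)).trans
    (AlgebraTensorModule.cancelBaseChange A B B N (C.X i))).toAddEquiv.trans
    (TensorProduct.comm A N (C.X i)).toAddEquiv

variable {N N'}

theorem eT_tmul (i : ι) (x : C'.X i) (n : N) :
    eT θ N i (x ⊗ₜ[B] n) =
      TensorProduct.comm A N (C.X i) (AlgebraTensorModule.cancelBaseChange A B B N (C.X i)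
        (n ⊗ₜ[B] bEquiv θ i x)) := rfl

theorem eT_d (i j : ι) (t : (C'.X i : Type u) ⊗[B] N) :
    eT θ N j ((C'.d i j).hom.rTensor N t) = (C.d i j).hom.rTensor N (eT θ N i t) := by
  induction t using TensorProduct.induction_on with
  | zero => simp
  | add a b ha hb => simp only [map_add, ha, hb]
  | tmul x n =>
    rw [LinearMap.rTensor_tmul, eT_tmul, eT_tmul, bEquiv_d]
    generalize bEquiv θ i x = z
    induction z using TensorProduct.induction_on with
    | zero => simp
    | add a b ha hb => simp only [map_add, TensorProduct.tmul_add, ha, hb]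
    | tmul b v =>
      simp only [LinearMap.baseChange_tmul, AlgebraTensorModule.cancelBaseChange_tmul, TensorProduct.comm_tmul,
        LinearMap.rTensor_tmul]

theorem eT_map (h : N →ₗ[B] N') (i : ι) (t : (C'.X i : Type u) ⊗[B] N) :
    eT θ N' i (h.lTensor (C'.X i) t) = (h.restrictScalars A).lTensor (C.X i) (eT θ N i t) := by
  induction t using TensorProduct.induction_on with
  | zero => simp
  | add a b ha hb => simp only [map_add, ha, hb]
  | tmul x n =>
    rw [LinearMap.lTensor_tmul, eT_tmul, eT_tmul]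
    generalize bEquiv θ i x = z
    induction z using TensorProduct.induction_on with
    | zero => simp
    | add a b ha hb => simp only [map_add, TensorProduct.tmul_add, ha, hb]
    | tmul b v =>
      simp only [AlgebraTensorModule.cancelBaseChange_tmul, TensorProduct.comm_tmul, LinearMap.lTensor_tmul,
        LinearMap.restrictScalars_apply, map_smul]

include θ in
theorem surjective_TFun (h : N →ₗ[B] N') (n : ι) :
    Function.Surjective ((CohIII.TFun C' n).map (ModuleCat.ofHom h)).hom ↔
      Function.Surjective ((CohIII.TFun C n).map (ModuleCat.ofHom (h.restrictScalars A))).hom :=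
  surjective_transfer (CohIII.tensorMap C' (ModuleCat.ofHom h))
    (CohIII.tensorMap C (ModuleCat.ofHom (h.restrictScalars A))) (eT θ N) (eT θ N') (eT_d θ) (eT_d θ)
    (eT_map θ h) n

include θ in
theorem injective_TFun (h : N →ₗ[B] N') (n : ι) :
    Function.Injective ((CohIII.TFun C' n).map (ModuleCat.ofHom h)).hom ↔
      Function.Injective ((CohIII.TFun C n).map (ModuleCat.ofHom (h.restrictScalars A))).hom :=
  injective_transfer (CohIII.tensorMap C' (ModuleCat.ofHom h))
    (CohIII.tensorMap C (ModuleCat.ofHom (h.restrictScalars A))) (eT θ N) (eT θ N') (eT_d θ) (eT_d θ)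
    (eT_map θ h) n

include θ in
/-- Exactness on the left or right passes to the base change. -/
theorem preservesEpi_bc (n : ι) (hC : (CohIII.TFun C n).PreservesEpimorphisms) :
    (CohIII.TFun C' n).PreservesEpimorphisms := by
  refine ⟨fun {M M'} g hg => (ModuleCat.epi_iff_surjective _).2 ?_⟩
  letI := Module.compHom M (algebraMap A B)
  letI := Module.compHom M' (algebraMap A B)
  haveI : IsScalarTower A B M := IsScalarTower.of_compHom A B M
  haveI : IsScalarTower A B M' := IsScalarTower.of_compHom A B M'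
  refine (surjective_TFun θ g.hom n).2 ?_
  have : Epi (ModuleCat.ofHom (g.hom.restrictScalars A)) :=
    (ModuleCat.epi_iff_surjective _).2 ((ModuleCat.epi_iff_surjective g).1 hg)
  exact (ModuleCat.epi_iff_surjective _).1 (hC.preserves _)

include θ in
theorem preservesMono_bc (n : ι) (hC : (CohIII.TFun C n).PreservesMonomorphisms) :
    (CohIII.TFun C' n).PreservesMonomorphisms := by
  refine ⟨fun {M M'} g hg => (ModuleCat.mono_iff_injective _).2 ?_⟩
  letI := Module.compHom M (algebraMap A B)
  letI := Module.compHom M' (algebraMap A B)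
  haveI : IsScalarTower A B M := IsScalarTower.of_compHom A B M
  haveI : IsScalarTower A B M' := IsScalarTower.of_compHom A B M'
  refine (injective_TFun θ g.hom n).2 ?_
  have : Mono (ModuleCat.ofHom (g.hom.restrictScalars A)) :=
    (ModuleCat.mono_iff_injective _).2 ((ModuleCat.mono_iff_injective g).1 hg)
  exact (ModuleCat.mono_iff_injective _).1 (hC.preserves _)

end Tensor

section Cech

variable {A : Type u} [CommRing A] {X : Scheme.{u}} [X.Over (Spec (CommRingCat.of A))] {ι : Type u} [Fintype ι]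
  (U : ι → X.Opens) (haff : ∀ (n : ℕ) (J : Fin (n + 1) → ι), IsAffineOpen (CohBCLib.capX U J))
  (hcov : ⨆ i, U i = ⊤) (F : X.Modules) [Coh.IsQCoh F]

include haff hcov in
theorem preservesEpi_iff_cech (p : ℕ) :
    (CohIII.tensorAFunctor A F ⋙ CohIII.HAb X p).PreservesEpimorphisms ↔
      (CohIII.TFun ((CohBCLib.cechA (X ↘ Spec (CommRingCat.of A)) U).obj F) p).PreservesEpimorphisms := by
  let f := X ↘ Spec (CommRingCat.of A)
  let e : CohIII.tensorAFunctor A F ⋙ CohIII.HAb X p ≅
      CohIII.TFun ((CohBCLib.cechA f U).obj F) p ⋙ forget₂ (ModuleCat.{u} A) AddCommGrpCat.{u} :=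
    (Functor.isoWhiskerLeft (CohBCLib.tA f F) (CohBCLib.HAForget f p)).symm ≪≫
      Functor.isoWhiskerRight (CohBCLib.haTAIso f U haff hcov F p).symm (forget₂ _ AddCommGrpCat.{u})
  rw [← CohBCLib.preservesEpi_forget_iff (CohIII.TFun ((CohBCLib.cechA f U).obj F) p)]
  exact ⟨fun h => Functor.preservesEpimorphisms.of_iso e, fun h => Functor.preservesEpimorphisms.of_iso e.symm⟩

include haff hcov in
theorem preservesMono_iff_cech (p : ℕ) :
    (CohIII.tensorAFunctor A F ⋙ CohIII.HAb X p).PreservesMonomorphisms ↔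
      (CohIII.TFun ((CohBCLib.cechA (X ↘ Spec (CommRingCat.of A)) U).obj F) p).PreservesMonomorphisms := by
  let f := X ↘ Spec (CommRingCat.of A)
  let e : CohIII.tensorAFunctor A F ⋙ CohIII.HAb X p ≅
      CohIII.TFun ((CohBCLib.cechA f U).obj F) p ⋙ forget₂ (ModuleCat.{u} A) AddCommGrpCat.{u} :=
    (Functor.isoWhiskerLeft (CohBCLib.tA f F) (CohBCLib.HAForget f p)).symm ≪≫
      Functor.isoWhiskerRight (CohBCLib.haTAIso f U haff hcov F p).symm (forget₂ _ AddCommGrpCat.{u})
  rw [← CohBCLib.preservesMono_forget_iff (CohIII.TFun ((CohBCLib.cechA f U).obj F) p)]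
  exact ⟨fun h => Functor.preservesMonomorphisms.of_iso e, fun h => Functor.preservesMonomorphisms.of_iso e.symm⟩

end Cech

end ExchBCLib
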